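import Cfsg.Agent.H379.CV.SUDown
import Cfsg.Agent.H356.TU.Iso

/-!
# Own characteristic of `SU_n(q)`: the class form (helper379, S3442)

* `ClsSU p n q f F` : the classes of the weights at the Frobenius levels are chosen before the element;
* `clsSU_of` : from the twisted system of `SJ`;
* `ClsSU.fixAll` : fixed vectors for balanced eigenvalues.
-/

set_option autoImplicit false
set_option linter.unusedSectionVars false

namespace Cfsg.Agent.H379.SUD

open Finset Cfsg.Agent.H45.UniE Cfsg.Agent.H564.TWP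
open Cfsg.Agent.H356.TU Cfsg.Agent.H356.TA

universe u v

/-- **the class form**: every module in characteristic `p` has classes `c a`, `a < f`, such that sets `J a` in these
classes with product one give a fixed vector -/
def ClsSU (p n q f : ℕ) (F : Type v) [Field F] : Prop :=
  ∀ (V : Type u) [AddCommGroup V] [Module (ZMod p) V] [Finite V] [Nontrivial V] (ρ : SU n F q →* (V ≃ₗ[ZMod p] V)),
    ∃ c : ℕ → ℕ, ((∀ z ∈ Subgroup.center (SU n F q), ρ z = 1) → ∀ z : F, z ^ n = 1 → z ^ (q + 1) = 1 →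
        z ^ (∑ a ∈ range f, p ^ a * c a) = 1) ∧
      ∀ (x : SU n F q) (θ : Fin n → AlgebraicClosure F) (g : Matrix.GeneralLinearGroup (Fin n) (AlgebraicClosure F)),
        (x : Matrix.SpecialLinearGroup (Fin n) F).1.map (algebraMap F (AlgebraicClosure F)) =
          g.1 * Matrix.diagonal θ * (g⁻¹).1 → ¬ p ∣ orderOf x →
        ∀ J : ℕ → Finset (Fin n), (∀ a < f, (J a).card ≡ c a [MOD n]) →
          ∏ a ∈ range f, (∏ j ∈ J a, θ j) ^ p ^ a = 1 → ∃ w : V, w ≠ 0 ∧ ρ x w = w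

variable {F : Type v} [Field F] [Fintype F] {p : ℕ} [hp : Fact p.Prime] [CharP F p] {q n : ℕ}

/-- the class form does not depend on the number `f` with `q = p ^ f` -/
theorem ClsSU.fixAll {f : ℕ} (h : ClsSU.{u} p n q f F) (hn : 0 < n) (x : SU n F q) (hx : (orderOf x).Coprime p)
    (θ : Fin n → AlgebraicClosure F) (g : Matrix.GeneralLinearGroup (Fin n) (AlgebraicClosure F))
    (hxθ : (x : Matrix.SpecialLinearGroup (Fin n) F).1.map (algebraMap F (AlgebraicClosure F)) =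
      g.1 * Matrix.diagonal θ * (g⁻¹).1)
    (hJ : ∀ c ≤ n, ∃ J : Finset (Fin n), J.card = c ∧ ∏ j ∈ J, θ j = 1) : H425.KFix.FixAll.{u} p x := by
  intro V _ _ _ _ ρ
  obtain ⟨c, -, hc⟩ := h V ρ
  have h1 : ∀ a, ∃ J : Finset (Fin n), J.card = c a % n ∧ ∏ j ∈ J, θ j = 1 := fun a =>
    hJ _ (Nat.mod_lt _ hn).le
  choose J hJ1 hJ2 using h1
  refine hc x θ g hxθ (fun h => (Nat.Prime.coprime_iff_not_dvd hp.out).1 hx.symm h) J (fun a _ => ?_) ?_
  · rw [hJ1]
    exact Nat.mod_modEq _ _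
  · exact Finset.prod_eq_one fun a _ => by rw [hJ2, one_pow]

/-- `q` is a power of `p` -/
theorem exists_level (hF : Fintype.card F = q ^ 2) : ∃ f, q = p ^ f := by
  obtain ⟨k, -, hk⟩ := FiniteField.card F p
  have h1 : q ∣ p ^ (k : ℕ) := by
    rw [← hk, hF]
    exact Dvd.intro_left _ (pow_two q).symm
  obtain ⟨f, -, hf⟩ := (Nat.dvd_prime_pow hp.out).1 h1
  exact ⟨f, hf⟩

variable {hF : Fintype.card F = q ^ 2}

/-- **transport from `SJ` to `SU`** -/
theorem clsSU_of_SJ {f : ℕ}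
    (h : ∀ (V : Type u) [AddCommGroup V] [Module (ZMod p) V] [Finite V] [Nontrivial V] (ρ : SJ hF n →* (V ≃ₗ[ZMod p] V)),
      ∃ c : ℕ → ℕ, ((∀ z ∈ Subgroup.center (SJ hF n), ρ z = 1) → ∀ z : F, z ^ (n + 1) = 1 → z ^ (q + 1) = 1 →
        z ^ (∑ a ∈ range f, p ^ a * c a) = 1) ∧
      ∀ (x : SJ hF n) (θ : Fin (n + 1) → AlgebraicClosure F) (g : Matrix.GeneralLinearGroup (Fin (n + 1)) (AlgebraicClosure F)),
        x.1.1.map (algebraMap F (AlgebraicClosure F)) = g.1 * Matrix.diagonal θ * (g⁻¹).1 → ¬ p ∣ orderOf x →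
        ∀ J : ℕ → Finset (Fin (n + 1)), (∀ a < f, (J a).card ≡ c a [MOD n + 1]) →
          ∏ a ∈ range f, (∏ j ∈ J a, θ j) ^ p ^ a = 1 → ∃ w : V, w ≠ 0 ∧ ρ x w = w) :
    ClsSU.{u} p (n + 1) q f F := by
  intro V _ _ _ _ ρ
  obtain ⟨U⟩ := exists_UB (hF := hF) (n := n)
  obtain ⟨c, hc1, hc2⟩ := h V (ρ.comp U.psi.symm.toMonoidHom)
  refine ⟨c, fun hz => hc1 fun z hz' => ?_, fun x θ g hx hpx J hJ1 hJ2 => ?_⟩
  · show ρ (U.psi.symm z) = 1
    apply hz
    rw [Subgroup.mem_center_iff] at hz' ⊢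
    intro y
    apply U.psi.injective
    rw [map_mul, map_mul, MulEquiv.apply_symm_apply]
    exact hz' _
  · have h1 := hc2 (U.psi x) θ ((Matrix.GeneralLinearGroup.map (algebraMap F (AlgebraicClosure F)) U.Pg)⁻¹ * g) ?_
      (by rwa [MulEquiv.orderOf_eq]) J hJ1 hJ2
    · obtain ⟨w, hw0, hw⟩ := h1
      refine ⟨w, hw0, ?_⟩
      have h2 : (ρ.comp U.psi.symm.toMonoidHom) (U.psi x) = ρ x := by
        show ρ (U.psi.symm (U.psi x)) = ρ x
        rw [MulEquiv.symm_apply_apply]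
      rw [← h2]
      exact hw
    · rw [U.psi_val, Matrix.map_mul, Matrix.map_mul, hx, mul_inv_rev, inv_inv, Units.val_mul, Units.val_mul]
      have e1 : ((Matrix.GeneralLinearGroup.map (algebraMap F (AlgebraicClosure F)) U.Pg)⁻¹).1 =
          ((U.Pg⁻¹).1).map (algebraMap F (AlgebraicClosure F)) := by
        rw [← map_inv]
        rfl
      have e2 : (Matrix.GeneralLinearGroup.map (algebraMap F (AlgebraicClosure F)) U.Pg).1 =
          (U.Pg.1).map (algebraMap F (AlgebraicClosure F)) := rfl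
      rw [e1, e2]
      simp only [Matrix.mul_assoc]

/-- **the class form for `SU_{n+1}(q)` from the twisted system of `SJ`** -/
theorem clsSU_of {D : FDat (Fin n) (Pos n) (AlgebraicClosure F) (Matrix.SpecialLinearGroup (Fin (n + 1)) (AlgebraicClosure F))}
    {E : TSys (Fin ((n + 1) / 2)) (fun j => Cs (F := F) q n j) (SJ hF n)} {o : Fin n → Fin ((n + 1) / 2)}
    (ho : ∀ i, (o i : ℕ) = if (i : ℕ) < (n + 1) / 2 then (i : ℕ) else n - 1 - i)
    (hΔ : ∀ i g, D.Δ i g = DA i g) (hE : E.hh = hh hF n)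
    (H : Hyp p E D (phi hF n (AlgebraicClosure F)) (chi q n (AlgebraicClosure F)) o (ee q n) (fun _ => q))
    (hwt : ∀ (W : Type (max u v)) [AddCommGroup W] [Module (AlgebraicClosure F) W], E.Wt (AlgebraicClosure F) W)
    {f : ℕ} (hf : q = p ^ f) : ClsSU.{u} p (n + 1) q f F :=
  clsSU_of_SJ (hF := hF) fun V _ _ _ _ ρ => exists_class_SJ ho hΔ hE H hwt hf V ρ

end Cfsg.Agent.H379.SUD
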