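import Mathlib

/-!
# Matrices of finite order prime to the characteristic are conjugate to the diagonal matrix of the roots of the
characteristic polynomial (helper379, S3442)

* `exists_conj_diag` : `M ^ r = 1`, `(r : K) ≠ 0`, `K` algebraically closed, `charpoly M = ∏ (X - C (t i))`; then
  `M = g * diagonal t * g⁻¹`.
-/

set_option autoImplicit false
set_option linter.unusedSectionVars false

namespace Cfsg.Agent.H379.CV

open Matrix Polynomial

universe v

variable {K : Type v} [Field K]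

/-- the unnormalised projection -/
def prj {ι : Type} [Fintype ι] [DecidableEq ι] (ζ : K) (r : ℕ) (M : Matrix ι ι K) (j : ℕ) : Matrix ι ι K :=
  ∑ i ∈ Finset.range r, ((ζ⁻¹) ^ j • M) ^ i

theorem mul_prj {ι : Type} [Fintype ι] [DecidableEq ι] {ζ : K} {r : ℕ} (hζ : ζ ^ r = 1) (hr : 0 < r)
    {M : Matrix ι ι K} (hM : M ^ r = 1) (j : ℕ) : M * prj ζ r M j = ζ ^ j • prj ζ r M j := by
  have hζ0 : ζ ≠ 0 := by
    rintro rfl
    rw [zero_pow hr.ne'] at hζ
    exact zero_ne_one hζ
  have h1 : ((ζ⁻¹) ^ j • M) ^ r = 1 := by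
    rw [_root_.smul_pow, hM, ← pow_mul, mul_comm j r, pow_mul, inv_pow, hζ, inv_one, one_pow, one_smul]
  set N : Matrix ι ι K := (ζ⁻¹) ^ j • M with hN
  have h2 : N * ∑ i ∈ Finset.range r, N ^ i = ∑ i ∈ Finset.range r, N ^ i := by
    rw [Finset.mul_sum]
    have h6 := Finset.sum_range_succ (fun i => N ^ i) r
    have h7 := Finset.sum_range_succ' (fun i => N ^ i) r
    rw [h6, h1, pow_zero] at h7
    have h8 := add_right_cancel h7
    rw [h8]
    exact Finset.sum_congr rfl fun i _ => (pow_succ' N i).symm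
  have h3 : M * prj ζ r M j = ζ ^ j • ((ζ⁻¹) ^ j • (M * prj ζ r M j)) := by
    rw [smul_smul, ← mul_pow, mul_inv_cancel₀ hζ0, one_pow, one_smul]
  rw [h3]
  congr 1
  rw [← Matrix.smul_mul]
  exact h2

theorem sum_prj {ι : Type} [Fintype ι] [DecidableEq ι] {ζ : K} {r : ℕ} (hζ : IsPrimitiveRoot ζ r) (hr : 0 < r)
    (M : Matrix ι ι K) : ∑ j ∈ Finset.range r, prj ζ r M j = (r : K) • (1 : Matrix ι ι K) := by
  have h1 : ∀ j i : ℕ, ((ζ⁻¹) ^ j • M) ^ i = ((ζ⁻¹) ^ i) ^ j • M ^ i := by
    intro j i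
    rw [_root_.smul_pow, ← pow_mul, ← pow_mul, mul_comm]
  simp only [prj, h1]
  rw [Finset.sum_comm, Finset.sum_eq_single 0]
  · simp only [pow_zero, one_pow, one_smul, Finset.sum_const, Finset.card_range]
    rw [← Nat.cast_smul_eq_nsmul K]
  · intro i hi hi0
    rw [← Finset.sum_smul]
    have h2 : (ζ⁻¹) ^ i ≠ 1 := by
      intro h
      rw [inv_pow, inv_eq_one] at h
      have := Nat.le_of_dvd (Nat.pos_of_ne_zero hi0) (hζ.dvd_of_pow_eq_one i h)
      have := Finset.mem_range.1 hi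
      omega
    rw [geom_sum_eq h2, ← pow_mul, mul_comm i r, pow_mul, inv_pow, hζ.pow_eq_one, inv_one, one_pow, sub_self,
      zero_div, zero_smul]
  · intro h
    exact absurd (Finset.mem_range.2 hr) h

/-- diagonalisation -/
theorem exists_diag_of_pow {ι : Type} [Fintype ι] [DecidableEq ι] {ζ : K} {r : ℕ} (hζ : IsPrimitiveRoot ζ r)
    (hr : 0 < r) (hrK : (r : K) ≠ 0) {M : Matrix ι ι K} (hM : M ^ r = 1) :
    ∃ B : GL ι K, ∃ s : ι → K, M = (B : Matrix ι ι K) * Matrix.diagonal s * ((B⁻¹ : GL ι K) : Matrix ι ι K) := by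
  classical
  set S : Set (ι → K) := {v | ∃ c : K, M *ᵥ v = c • v} with hS
  have hspan : ⊤ ≤ Submodule.span K S := by
    intro v _
    have h1 : v = (r : K)⁻¹ • ∑ j ∈ Finset.range r, prj ζ r M j *ᵥ v := by
      rw [← Matrix.sum_mulVec, sum_prj hζ hr, Matrix.smul_mulVec, Matrix.one_mulVec, smul_smul, inv_mul_cancel₀ hrK,
        one_smul]
    rw [h1]
    refine Submodule.smul_mem _ _ (Submodule.sum_mem _ (fun j _ => Submodule.subset_span ?_))
    refine ⟨ζ ^ j, ?_⟩
    rw [Matrix.mulVec_mulVec, mul_prj hζ.pow_eq_one hr hM, Matrix.smul_mulVec]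
  obtain ⟨κ, b, hb⟩ : ∃ (κ : Type _) (b : Module.Basis κ K (ι → K)), ∀ i, b i ∈ S :=
    ⟨_, Module.Basis.ofSpan hspan, fun i => Module.Basis.ofSpan_subset hspan ⟨i, rfl⟩⟩
  have hfin : Fintype κ := FiniteDimensional.fintypeBasisIndex b
  have hcard : Fintype.card κ = Fintype.card ι := by
    rw [← Module.finrank_eq_card_basis b, Module.finrank_fintype_fun_eq_card]
  let e := Fintype.equivOfCardEq hcard
  let b' := b.reindex e
  have hb' : ∀ i, b' i ∈ S := fun i => by
    rw [Module.Basis.reindex_apply]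
    exact hb _
  choose s hsM using hb'
  let B : Matrix ι ι K := (Pi.basisFun K ι).toMatrix b'
  have hBu : IsUnit B := by
    have := Module.Basis.invertibleToMatrix (Pi.basisFun K ι) b'
    exact isUnit_of_invertible B
  obtain ⟨B', hB'⟩ := hBu
  have hcol : ∀ j, B *ᵥ (Pi.single j 1) = b' j := by
    intro j
    ext i
    simp [B, Module.Basis.toMatrix_apply]
  have hB'' : (B' : Matrix ι ι K) = B := hB'
  have key : M * (B' : Matrix ι ι K) = (B' : Matrix ι ι K) * Matrix.diagonal s := by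
    rw [hB'']
    apply Matrix.ext_of_mulVec_single
    intro j
    have hd : (Matrix.diagonal s : Matrix ι ι K) *ᵥ (Pi.single j 1) = s j • (Pi.single j 1 : ι → K) := by
      ext i
      rw [Matrix.mulVec_diagonal, Pi.smul_apply, smul_eq_mul]
      by_cases hij : i = j
      · rw [hij]
      · rw [Pi.single_eq_of_ne hij, mul_zero, mul_zero]
    rw [← Matrix.mulVec_mulVec, hcol, hsM, ← Matrix.mulVec_mulVec, hd, Matrix.mulVec_smul, hcol]
  refine ⟨B', s, ?_⟩
  rw [← key, Matrix.mul_assoc, ← Units.val_mul, mul_inv_cancel, Units.val_one, Matrix.mul_one]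

/-- the characteristic polynomial of a diagonal matrix -/
theorem charpoly_diag {ι : Type} [Fintype ι] [DecidableEq ι] (s : ι → K) :
    (Matrix.diagonal s).charpoly = ∏ i, (X - C (s i)) := by
  have h : (Matrix.diagonal s).charmatrix = Matrix.diagonal fun i => X - C (s i) := by
    ext i j : 2
    by_cases hij : i = j
    · rw [hij, Matrix.charmatrix_apply_eq, Matrix.diagonal_apply_eq, Matrix.diagonal_apply_eq]
    · rw [Matrix.charmatrix_apply_ne _ _ _ hij, Matrix.diagonal_apply_ne _ hij, Matrix.diagonal_apply_ne _ hij, C_0, neg_zero]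
  rw [Matrix.charpoly, h, Matrix.det_diagonal]

/-- conjugate matrices have the same characteristic polynomial -/
theorem charpoly_cj {ι : Type} [Fintype ι] [DecidableEq ι] (B : GL ι K) (M : Matrix ι ι K) :
    ((B : Matrix ι ι K) * M * ((B⁻¹ : GL ι K) : Matrix ι ι K)).charpoly = M.charpoly := by
  rw [Matrix.coe_units_inv]
  exact Matrix.charpoly_units_conj B M

/-- **a matrix of finite order prime to the characteristic is conjugate to the diagonal matrix of its eigenvalues** -/
theorem exists_conj_diag [IsAlgClosed K] {ι : Type} [Fintype ι] [DecidableEq ι] {r : ℕ} (hrK : (r : K) ≠ 0)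
    {M : Matrix ι ι K} (hM : M ^ r = 1) (t : ι → K) (ht : M.charpoly = ∏ i, (X - C (t i))) :
    ∃ g : GL ι K, M = (g : Matrix ι ι K) * Matrix.diagonal t * ((g⁻¹ : GL ι K) : Matrix ι ι K) := by
  classical
  have hr : 0 < r := Nat.pos_of_ne_zero (by rintro rfl; exact hrK Nat.cast_zero)
  have : NeZero (r : K) := ⟨hrK⟩
  obtain ⟨ζ, hζ⟩ := HasEnoughRootsOfUnity.exists_primitiveRoot K r
  obtain ⟨B, s, hs⟩ := exists_diag_of_pow hζ hr hrK hM
  have h1 : ∏ i, (X - C (s i)) = ∏ i, (X - C (t i)) := by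
    rw [← ht, hs, charpoly_cj, charpoly_diag]
  have h2 : Multiset.map s Finset.univ.val = Multiset.map t Finset.univ.val := by
    have h3 := congrArg Polynomial.roots h1
    have h4 : ∀ u : ι → K, (∏ i, (X - C (u i))).roots = Multiset.map u Finset.univ.val := by
      intro u
      have h5 : ∏ i, (X - C (u i)) = (Multiset.map (fun a => X - C a) (Multiset.map u Finset.univ.val)).prod := by
        rw [Multiset.map_map]; rfl
      rw [h5, Polynomial.roots_multiset_prod_X_sub_C]
    rwa [h4, h4] at h3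
  obtain ⟨σ, hσ⟩ : ∃ σ : Equiv.Perm ι, ∀ i, s (σ i) = t i := by
    have hc : ∀ a : K, Nonempty ({i // t i = a} ≃ {i // s i = a}) := by
      intro a
      rw [← Fintype.card_eq, Fintype.card_subtype, Fintype.card_subtype]
      have h6 := congrArg (Multiset.count a) h2
      rw [Multiset.count_map, Multiset.count_map] at h6
      have e1 : ∀ u : ι → K, (Finset.univ.filter fun i => u i = a).card =
          Multiset.card (Multiset.filter (fun i => a = u i) Finset.univ.val) := by
        intro u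
        rw [Finset.card_def, Finset.filter_val]
        congr 1
        exact Multiset.filter_congr fun i _ => eq_comm
      rw [e1, e1, h6]
    have e : ∀ a : K, {i // t i = a} ≃ {i // s i = a} := fun a => Classical.choice (hc a)
    refine ⟨(Equiv.sigmaFiberEquiv t).symm.trans ((Equiv.sigmaCongrRight fun a => e a).trans
      (Equiv.sigmaFiberEquiv s)), fun i => ?_⟩
    exact ((e (t i)) ⟨i, rfl⟩).2
  -- the permutation matrix
  set P : Matrix ι ι K := (σ.toPEquiv.toMatrix : Matrix ι ι K) with hP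
  have hP1 : P * (σ⁻¹ : Equiv.Perm ι).toPEquiv.toMatrix = 1 := by
    rw [hP, ← PEquiv.toMatrix_trans, ← Equiv.toPEquiv_trans]
    have e1 : σ.trans σ⁻¹ = Equiv.refl ι := by
      ext i
      simp
    rw [e1, Equiv.toPEquiv_refl, PEquiv.toMatrix_refl]
  have hP2 : ((σ⁻¹ : Equiv.Perm ι).toPEquiv.toMatrix : Matrix ι ι K) * P = 1 := by
    rw [hP, ← PEquiv.toMatrix_trans, ← Equiv.toPEquiv_trans]
    have e1 : (σ⁻¹ : Equiv.Perm ι).trans σ = Equiv.refl ι := by
      ext i
      simp
    rw [e1, Equiv.toPEquiv_refl, PEquiv.toMatrix_refl]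
  let Pu : GL ι K := ⟨P, (σ⁻¹ : Equiv.Perm ι).toPEquiv.toMatrix, hP1, hP2⟩
  have h3 : P * Matrix.diagonal s = Matrix.diagonal t * P := by
    ext i j
    rw [Matrix.mul_diagonal, Matrix.diagonal_mul, hP, PEquiv.toMatrix_apply]
    by_cases hj : j ∈ σ.toPEquiv i
    · rw [if_pos hj, one_mul, mul_one]
      have h5 : σ i = j := by
        rw [Equiv.toPEquiv_apply] at hj
        exact Option.some_injective _ hj
      rw [← hσ i, h5]
    · rw [if_neg hj, zero_mul, mul_zero]
  refine ⟨B * Pu⁻¹, ?_⟩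
  have h4 : (Pu : Matrix ι ι K) = P := rfl
  have h5 : Matrix.diagonal t = (Pu : Matrix ι ι K) * Matrix.diagonal s * ((Pu⁻¹ : GL ι K) : Matrix ι ι K) := by
    rw [h4, h3, Matrix.mul_assoc, ← h4, ← Units.val_mul, mul_inv_cancel, Units.val_one, Matrix.mul_one]
  rw [h5, hs, _root_.mul_inv_rev, inv_inv]
  simp only [Units.val_mul]
  have h6 : ((Pu⁻¹ : GL ι K) : Matrix ι ι K) * (Pu : Matrix ι ι K) = 1 := by
    rw [← Units.val_mul, inv_mul_cancel, Units.val_one]
  have e2 : (B : Matrix ι ι K) * ((Pu⁻¹ : GL ι K) : Matrix ι ι K) * ((Pu : Matrix ι ι K) * Matrix.diagonal s *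
      ((Pu⁻¹ : GL ι K) : Matrix ι ι K)) * ((Pu : Matrix ι ι K) * ((B⁻¹ : GL ι K) : Matrix ι ι K)) =
      (B : Matrix ι ι K) * (((Pu⁻¹ : GL ι K) : Matrix ι ι K) * (Pu : Matrix ι ι K)) * Matrix.diagonal s *
        ((((Pu⁻¹ : GL ι K) : Matrix ι ι K) * (Pu : Matrix ι ι K)) * ((B⁻¹ : GL ι K) : Matrix ι ι K)) := by
    simp only [Matrix.mul_assoc]
  rw [e2, h6, Matrix.mul_one, Matrix.one_mul]

end Cfsg.Agent.H379.CV
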