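import Cfsg.Agent.H356.TU.Def
import Cfsg.Agent.H356.TA.Cls

/-!
# Own characteristic of `SU_{n+1}(q)`: from the twisted system to fixed vectors (helper379, S3442)

* `exists_weight_sum` : the weight of a module of a twisted group is chosen before the element;
* `wt_eq`, `lam` : the weights of `SU_{n+1}(q)`;
* `act_H`, `act_sc` : the torus, the centre;
* `exists_class_SJ`, `fixAll_SJ` : fixed vectors.
-/

set_option autoImplicit false
set_option linter.unusedSectionVars false
set_option linter.unusedSimpArgs false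

namespace Cfsg.Agent.H379.SUD

open Finset Polynomial Cfsg.Agent.H45.Uni Cfsg.Agent.H45.UniE Cfsg.Agent.H564.TWP Cfsg.Agent.H564.TWP.TSys
open Cfsg.Agent.H356.TU Cfsg.Agent.H356.TA Cfsg.Agent.LieClassical.HermBasic

universe u v

section gen

variable {p : ℕ} [hp : Fact p.Prime] {J S ι Φ k G : Type*} {C : J → Type*} [∀ j, CommGroup (C j)] [Group S] [Finite S]
  {E : TSys J C S} [Field k] [Group G] [DecidableEq ι] [DecidableEq J] [Fintype ι] [Infinite k] {D : FDat ι Φ k G}
  {φ : S →* G} {χ : (j : J) → C j →* kˣ} {orb : ι → J} {e : ι → ℕ} {qq : Φ → ℕ}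

/-- the torus acts on a weight vector as on the function `cc l` -/
theorem act_H (hM : E.Map D φ χ orb e) {W : Type*} [AddCommGroup W] [Module k W] {σ : S →* Module.End k W}
    {l : ι → ℕ} {v : W} (hv : E.IsW χ σ (wt orb e l) v) {t : S} (ht : t ∈ E.H) : σ t v = D.cc l (φ t) • v := by
  have hmul : ∀ (a b : S) (x : W), σ (a * b) x = σ a (σ b x) := fun a b x => by rw [map_mul]; rfl
  have h0 := E.H_gen ht
  have key : φ t ∈ D.T ∧ σ t v = D.cc l (φ t) • v := by
    clear ht
    induction h0 using Subgroup.closure_induction with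
    | mem g hg =>
      obtain ⟨j, b, rfl⟩ := hg
      exact ⟨hM.H _ (E.hh_mem j b), by rw [hv.tor, hM.cc_hh]⟩
    | one =>
      refine ⟨by rw [map_one]; exact one_mem _, ?_⟩
      rw [map_one, map_one, D.cc_one, one_smul]
      rfl
    | mul a b _ _ h1 h2 =>
      refine ⟨by rw [map_mul]; exact mul_mem h1.1 h2.1, ?_⟩
      rw [hmul, h2.2, map_smul, h1.2, smul_smul, map_mul, D.cc_mul_T l h2.1]
    | inv a _ h1 =>
      refine ⟨by rw [map_inv]; exact inv_mem h1.1, ?_⟩
      have h2 : D.cc l (φ a⁻¹) * D.cc l (φ a) = 1 := by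
        rw [mul_comm, ← D.cc_mul_T l h1.1, map_inv, inv_mul_cancel, D.cc_one]
      have h3 : σ a⁻¹ (σ a v) = v := by rw [← hmul, inv_mul_cancel, map_one]; rfl
      rw [h1.2, map_smul] at h3
      calc σ a⁻¹ v = (D.cc l (φ a⁻¹) * D.cc l (φ a)) • σ a⁻¹ v := by rw [h2, one_smul]
        _ = D.cc l (φ a⁻¹) • (D.cc l (φ a) • σ a⁻¹ v) := by rw [smul_smul]
        _ = _ := by rw [h3]
  exact key.2

/-- modules over an algebraically closed field, a given weight vector -/
theorem exists_fix_vec (h : Hyp p E D φ χ orb e qq) [CharP k p] {W : Type*} [AddCommGroup W] [Module k W]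
    (ρ : S →* Module.End k W) {l : ι → ℕ} (hl : ∀ i, l i < qq (D.zi i)) {v : W} (hv0 : v ≠ 0)
    (hv : E.IsW χ ρ (wt orb e l) v)
    (hT : ∀ j, E.Tj ρ j v = ((if wt orb e l j = 0 then 1 else 0) + E.sg χ (wt orb e l) j) • v) (x : S)
    (hV : ∃ h g, ∑ i ∈ range (orderOf x), D.cc l (h * φ x ^ i * g) ≠ 0) :
    ∃ v : W, v ≠ 0 ∧ ρ x v = v := by
  classical
  by_contra hcon
  push Not at hcon
  set r := orderOf x with hr
  have hsum : ∀ w : W, ∑ i ∈ range r, ρ (x ^ i) w = 0 := by
    intro w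
    by_contra hne
    apply hcon _ hne
    rw [map_sum]
    have e : ∀ i, ρ x (ρ (x ^ i) w) = ρ (x ^ (i + 1)) w := by
      intro i
      rw [pow_succ', map_mul]; rfl
    simp only [e]
    have h6 := Finset.sum_range_succ (fun i => ρ (x ^ i) w) r
    have h7 := Finset.sum_range_succ' (fun i => ρ (x ^ i) w) r
    rw [h6] at h7
    have h8 : x ^ r = 1 := pow_orderOf_eq_one x
    simp only [h8, pow_zero] at h7
    exact (add_right_cancel h7).symm
  obtain ⟨h1, g1, h2⟩ := hV
  exact h2 (h.relations ρ hl hv0 hv hT hsum h1 g1)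

end gen

section final

open TensorProduct

variable {p : ℕ} [hp : Fact p.Prime] {J S ι Φ G : Type*} {k : Type v} {C : J → Type*} [∀ j, CommGroup (C j)] [Group S]
  [Finite S] {E : TSys J C S} [Field k] [Group G] [DecidableEq ι] [DecidableEq J] [Fintype ι] [Infinite k]
  {D : FDat ι Φ k G} {φ : S →* G} {χ : (j : J) → C j →* kˣ} {orb : ι → J} {e : ι → ℕ} {qq : Φ → ℕ}

/-- **the weight is chosen before the element** -/
theorem exists_weight_sum [CharP k p] (h : Hyp p E D φ χ orb e qq)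
    (hwt : ∀ (W : Type (max u v)) [AddCommGroup W] [Module k W], E.Wt k W)
    (V : Type u) [AddCommGroup V] [Module (ZMod p) V] [Finite V] [Nontrivial V] (ρ : S →* (V ≃ₗ[ZMod p] V)) :
    ∃ (W : Type (max u v)) (_ : AddCommGroup W) (_ : Module k W) (σ : S →* Module.End k W) (l : ι → ℕ) (v : W),
      (∀ g, ρ g = 1 → σ g = 1) ∧ v ≠ 0 ∧ (∀ i, l i < qq (D.zi i)) ∧ E.IsW χ σ (wt orb e l) v ∧
        ∀ x : S, (∃ h g, ∑ i ∈ range (orderOf x), D.cc l (h * φ x ^ i * g) ≠ 0) → ∃ w : V, w ≠ 0 ∧ ρ x w = w := by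
  classical
  let _ : Algebra (ZMod p) k := ZMod.algebra k p
  have : Module.Finite (ZMod p) V := Module.Finite.of_finite
  let ρk : S →* Module.End k (k ⊗[ZMod p] V) :=
    { toFun := fun g => (ρ g).toLinearMap.baseChange k
      map_one' := by
        rw [map_one]
        exact LinearMap.baseChange_id
      map_mul' := fun g h => by
        rw [map_mul]
        exact LinearMap.baseChange_comp _ _ }
  have hnt : Nontrivial (k ⊗[ZMod p] V) := by
    obtain ⟨w, hw⟩ := exists_ne (0 : V)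
    have hinj : Function.Injective (fun v : V => (1 : k) ⊗ₜ[ZMod p] v) := by
      have h1 : Function.Injective (LinearMap.rTensor V (Algebra.linearMap (ZMod p) k)) :=
        Module.Flat.rTensor_preserves_injective_linearMap _ (algebraMap (ZMod p) k).injective
      intro a b hab
      have h2 : LinearMap.rTensor V (Algebra.linearMap (ZMod p) k) ((TensorProduct.lid (ZMod p) V).symm a) =
          LinearMap.rTensor V (Algebra.linearMap (ZMod p) k) ((TensorProduct.lid (ZMod p) V).symm b) := by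
        rw [TensorProduct.lid_symm_apply, TensorProduct.lid_symm_apply, LinearMap.rTensor_tmul,
          LinearMap.rTensor_tmul, Algebra.linearMap_apply, map_one]
        exact hab
      exact (TensorProduct.lid (ZMod p) V).symm.injective (h1 h2)
    refine ⟨⟨(1 : k) ⊗ₜ[ZMod p] w, 0, fun h => hw ?_⟩⟩
    apply hinj
    show (1 : k) ⊗ₜ[ZMod p] w = (1 : k) ⊗ₜ[ZMod p] (0 : V)
    rw [h, TensorProduct.tmul_zero]
  have hker : ∀ g, ρ g = 1 → ρk g = 1 := by
    intro g hg
    show (ρ g).toLinearMap.baseChange k = 1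
    rw [hg]
    exact LinearMap.baseChange_id
  obtain ⟨l, v, hl, hv0, hv, hT⟩ := h.exists_weight (hwt _) ρk inferInstance inferInstance
  refine ⟨_, inferInstance, inferInstance, ρk, l, v, hker, hv0, hl, hv, fun x hx => ?_⟩
  obtain ⟨v', hv0', hv'⟩ := exists_fix_vec h ρk hl hv0 hv hT x hx
  by_contra hcon
  push Not at hcon
  have hinj : Function.Injective ((ρ x).toLinearMap - LinearMap.id : V →ₗ[ZMod p] V) := by
    rw [injective_iff_map_eq_zero]
    intro w hw
    by_contra hw0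
    exact hcon w hw0 (sub_eq_zero.1 hw)
  have hinj2 : Function.Injective (LinearMap.lTensor k ((ρ x).toLinearMap - LinearMap.id : V →ₗ[ZMod p] V)) :=
    Module.Flat.lTensor_preserves_injective_linearMap _ hinj
  apply hv0'
  apply hinj2
  rw [LinearMap.lTensor_sub, LinearMap.sub_apply]
  have h4 : LinearMap.lTensor k (ρ x).toLinearMap v' = v' := hv'
  rw [h4, LinearMap.lTensor_id]
  simp

end final

/-! ### the weights of `SU` -/

section weights

/-- the weights -/
theorem wt_eq {n : ℕ} {o : Fin n → Fin ((n + 1) / 2)}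
    (ho : ∀ i, (o i : ℕ) = if (i : ℕ) < (n + 1) / 2 then (i : ℕ) else n - 1 - i) (q : ℕ) (l : Fin n → ℕ)
    (j : Fin ((n + 1) / 2)) : H564.TWP.TSys.wt o (ee q n) l j =
    l ⟨j, by omega⟩ + if 2 * (j : ℕ) + 2 = n + 1 then 0 else q * l ⟨n - 1 - j, by omega⟩ := by
  classical
  unfold H564.TWP.TSys.wt
  rw [Finset.sum_filter]
  have ha : o ⟨j, by omega⟩ = j := by
    apply Fin.ext
    rw [ho]
    show (if (j : ℕ) < (n + 1) / 2 then (j : ℕ) else n - 1 - j) = j
    rw [if_pos j.2]
  have hea : ee q n ⟨j, by omega⟩ = 1 := by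
    show (if (j : ℕ) < (n + 1) / 2 then 1 else q) = 1
    rw [if_pos j.2]
  have hother : ∀ i : Fin n, o i = j → (i : ℕ) = j ∨ (i : ℕ) = n - 1 - j := by
    intro i hi
    have h1 : (if (i : ℕ) < (n + 1) / 2 then (i : ℕ) else n - 1 - i) = j := (ho i).symm.trans (congrArg Fin.val hi)
    have := i.2
    split_ifs at h1 <;> omega
  by_cases h : 2 * (j : ℕ) + 2 = n + 1
  · rw [if_pos h, add_zero, Fintype.sum_eq_single (⟨j, by omega⟩ : Fin n)]
    · rw [if_pos ha, hea, one_mul]
    · intro i hi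
      rw [if_neg]
      intro h1
      rcases hother i h1 with h2 | h2
      · exact hi (Fin.ext h2)
      · exact hi (Fin.ext (by show (i : ℕ) = j; omega))
  · have hj := j.2
    have hb : o ⟨n - 1 - j, by omega⟩ = j := by
      apply Fin.ext
      rw [ho]
      show (if n - 1 - (j : ℕ) < (n + 1) / 2 then n - 1 - (j : ℕ) else n - 1 - (n - 1 - (j : ℕ))) = j
      rw [if_neg (by omega)]
      omega
    have heb : ee q n ⟨n - 1 - j, by omega⟩ = q := by
      show (if n - 1 - (j : ℕ) < (n + 1) / 2 then 1 else q) = q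
      rw [if_neg (by omega)]
    rw [if_neg h, Fintype.sum_eq_add (⟨j, by omega⟩ : Fin n) ⟨n - 1 - j, by omega⟩]
    · rw [if_pos ha, if_pos hb, hea, heb, one_mul]
    · intro h1
      have := congrArg Fin.val h1
      simp only at this
      omega
    · rintro i ⟨h1, h2⟩
      rw [if_neg]
      intro h3
      rcases hother i h3 with h4 | h4
      · exact h1 (Fin.ext h4)
      · exact h2 (Fin.ext h4)

variable {F : Type*} [Field F] [Fintype F] {q n : ℕ}

theorem card_Cs_le (hF : Fintype.card F = q ^ 2) (j : ℕ) : Nat.card (Cs (F := F) q n j) < q ^ 2 := by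
  have h1 : Nat.card (Cs (F := F) q n j) ≤ Nat.card Fˣ := Nat.card_le_card_of_injective _ Subtype.val_injective
  have h2 := Nat.card_units F
  have h4 : Nat.card F = q ^ 2 := by rw [Nat.card_eq_fintype_card, hF]
  have h3 : 0 < q ^ 2 := by rw [← hF]; exact Fintype.card_pos
  omega

theorem card_Cs_mid (hF : Fintype.card F = q ^ 2) {j : ℕ} (hj : 2 * j + 2 = n + 1) :
    Nat.card (Cs (F := F) q n j) < q := by
  classical
  have h1 : Nat.card (Option (Cs (F := F) q n j)) ≤ Nat.card {x : F // x ^ q = x} := by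
    refine Nat.card_le_card_of_injective (fun o : Option (Cs (F := F) q n j) => match o with
      | none => ⟨0, zero_pow_q hF⟩
      | some b => ⟨(b.1 : F), by
          have h2 : b.1 ^ q = b.1 := b.2 hj
          rw [← Units.val_pow_eq_pow_val, h2]⟩) ?_
    rintro (_ | a) (_ | b) hab
    · rfl
    · exact absurd (congrArg Subtype.val hab).symm b.1.ne_zero
    · exact absurd (congrArg Subtype.val hab) a.1.ne_zero
    · have h2 := congrArg Subtype.val hab
      rw [Subtype.ext (Units.ext h2)]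
  rw [card_fixed hF, Nat.card_eq_fintype_card, Fintype.card_option, ← Nat.card_eq_fintype_card] at h1
  omega

/-- **the digits** -/
theorem lam {o : Fin n → Fin ((n + 1) / 2)} (ho : ∀ i, (o i : ℕ) = if (i : ℕ) < (n + 1) / 2 then (i : ℕ) else n - 1 - i)
    (hF : Fintype.card F = q ^ 2) (a : Fin ((n + 1) / 2) → ℕ)
    (ha : ∀ j, a j ≤ Nat.card (Cs (F := F) q n j)) :
    ∃ l : Fin n → ℕ, (∀ i, l i < q) ∧ ∀ j, H564.TWP.TSys.wt o (ee q n) l j = a j := by
  have hq : 0 < q := by
    rcases Nat.eq_zero_or_pos q with h | h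
    · rw [h] at hF
      have : 0 < Fintype.card F := Fintype.card_pos
      simp at hF
    · exact h
  refine ⟨fun i => if h : (i : ℕ) < (n + 1) / 2 then a ⟨i, h⟩ % q else a ⟨n - 1 - i, by omega⟩ / q, fun i => ?_,
    fun j => ?_⟩
  · beta_reduce
    split_ifs with h
    · exact Nat.mod_lt _ hq
    · rw [Nat.div_lt_iff_lt_mul hq, ← pow_two]
      exact (ha _).trans_lt (card_Cs_le hF _)
  · rw [wt_eq ho]
    have hj := j.2
    rw [dif_pos hj]
    by_cases h : 2 * (j : ℕ) + 2 = n + 1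
    · rw [if_pos h, add_zero]
      exact Nat.mod_eq_of_lt ((ha j).trans_lt (card_Cs_mid hF h))
    · rw [if_neg h, dif_neg (by show ¬ (n - 1 - (j : ℕ) < (n + 1) / 2); omega)]
      have e : (⟨n - 1 - (n - 1 - (j : ℕ)), by omega⟩ : Fin ((n + 1) / 2)) = j := by
        apply Fin.ext
        show n - 1 - (n - 1 - (j : ℕ)) = j
        omega
      rw [e]
      exact Nat.mod_add_div _ _

end weights

/-! ### the centre -/

section centre

/-- diagonal matrices with the same leading products -/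
theorem diag_unique {k : Type*} [Field k] {n : ℕ} {d d' : Fin (n + 1) → k} (hd : ∀ x, d' x ≠ 0)
    (h : ∀ i : Fin n, ∏ a : Fin ((i : ℕ) + 1), d (Fin.castLE (le_of_fin i) a) =
      ∏ a : Fin ((i : ℕ) + 1), d' (Fin.castLE (le_of_fin i) a)) (h1 : ∏ a, d a = ∏ a, d' a) : d = d' := by
  have key : ∀ l (hl : l ≤ n + 1), ∏ a : Fin l, d (Fin.castLE hl a) = ∏ a : Fin l, d' (Fin.castLE hl a) := by
    intro l hl
    rcases l with _ | l
    · simp
    · by_cases hln : l < n
      · exact h ⟨l, hln⟩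
      · obtain rfl : l = n := by omega
        exact h1
  funext x
  have h2 := key ((x : ℕ) + 1) x.2
  rw [Fin.prod_univ_castSucc, Fin.prod_univ_castSucc] at h2
  have h3 := key (x : ℕ) x.2.le
  have e1 : ∏ i : Fin (x : ℕ), d (Fin.castLE x.2 i.castSucc) = ∏ i : Fin (x : ℕ), d (Fin.castLE x.2.le i) := rfl
  have e2 : ∏ i : Fin (x : ℕ), d' (Fin.castLE x.2 i.castSucc) = ∏ i : Fin (x : ℕ), d' (Fin.castLE x.2.le i) := rfl
  rw [e1, e2, h3] at h2
  have h4 : ∏ i : Fin (x : ℕ), d' (Fin.castLE x.2.le i) ≠ 0 := Finset.prod_ne_zero_iff.2 fun i _ => hd _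
  exact mul_left_cancel₀ h4 h2

variable {F : Type*} [Field F] [Fintype F] {q n : ℕ} (hF : Fintype.card F = q ^ 2)

/-- the scalars in `SJ` -/
def scl {ζ : Fˣ} (h1 : ζ ^ (n + 1) = 1) (h2 : ζ ^ (q + 1) = 1) : SJ hF n :=
  ⟨dl (fun _ => ζ) (by rw [Finset.prod_const, Finset.card_univ, Fintype.card_fin, h1]),
    dl_mem_SJ _ fun _ => by rw [← pow_succ', h2]⟩

theorem scl_val {ζ : Fˣ} (h1 : ζ ^ (n + 1) = 1) (h2 : ζ ^ (q + 1) = 1) :
    (scl hF h1 h2).1.1 = Matrix.diagonal fun _ => (ζ : F) := rfl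

theorem scl_center {ζ : Fˣ} (h1 : ζ ^ (n + 1) = 1) (h2 : ζ ^ (q + 1) = 1) :
    scl hF h1 h2 ∈ Subgroup.center (SJ hF n) := by
  rw [Subgroup.mem_center_iff]
  intro g
  apply Subtype.ext
  apply Subtype.ext
  show g.1.1 * (scl hF h1 h2).1.1 = (scl hF h1 h2).1.1 * g.1.1
  rw [scl_val, ← Matrix.smul_one_eq_diagonal, Matrix.mul_smul, Matrix.smul_mul, Matrix.mul_one, Matrix.one_mul]

variable {hF} {k : Type*} [Field k] [Algebra F k] {D : FDat (Fin n) (Pos n) k (Matrix.SpecialLinearGroup (Fin (n + 1)) k)}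
  {E : TSys (Fin ((n + 1) / 2)) (fun j => Cs (F := F) q n j) (SJ hF n)}

theorem phi_val (t : SJ hF n) : (phi hF n k t).1 = t.1.1.map (algebraMap F k) := rfl

theorem phi_diag {t : SJ hF n} {d : Fin (n + 1) → Fˣ} (h : t.1.1 = Matrix.diagonal fun x => (d x : F)) :
    (phi hF n k t).1 = Matrix.diagonal fun x => algebraMap F k (d x : F) := by
  rw [phi_val, h, Matrix.diagonal_map (map_zero _)]

/-- the scalars are in the torus -/
theorem scl_mem {o : Fin n → Fin ((n + 1) / 2)} (ho : ∀ i, (o i : ℕ) = if (i : ℕ) < (n + 1) / 2 then (i : ℕ) else n - 1 - i)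
    (hΔ : ∀ i g, D.Δ i g = DA i g) (hM : E.Map D (phi hF n k) (chi q n k) o (ee q n))
    (hE : E.hh = hh hF n) {ζ : Fˣ} (h1 : ζ ^ (n + 1) = 1) (h2 : ζ ^ (q + 1) = 1) : scl hF h1 h2 ∈ E.H := by
  classical
  -- the parameters
  have hq1 : ζ ^ q = ζ⁻¹ := by
    rw [eq_inv_iff_mul_eq_one, ← pow_succ, h2]
  have hC : ∀ j : Fin ((n + 1) / 2), ζ ^ ((j : ℕ) + 1) ∈ Cs (F := F) q n j := by
    intro j hj
    rw [← pow_mul, mul_comm, pow_mul, hq1, inv_pow, inv_eq_iff_mul_eq_one, ← pow_add]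
    have e : (j : ℕ) + 1 + (j + 1) = n + 1 := by omega
    rw [e, h1]
  have key : ∀ s : Finset (Fin ((n + 1) / 2)), ∃ t ∈ E.H, (∃ d : Fin (n + 1) → Fˣ,
      t.1.1 = Matrix.diagonal fun x => (d x : F)) ∧
      ∀ i : Fin n, DA i (phi hF n k t) = if o i ∈ s then algebraMap F k (ζ : F) ^ ((i : ℕ) + 1) else 1 := by
    intro s
    induction s using Finset.induction_on with
    | empty =>
      refine ⟨1, one_mem _, ⟨fun _ => 1, ?_⟩, fun i => ?_⟩
      · show (1 : Matrix _ _ F) = _
        rw [← Matrix.diagonal_one]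
        congr 1
      · rw [map_one, if_neg (Finset.notMem_empty _)]
        exact ld_one (le_of_fin i)
    | insert j s hj ih =>
      obtain ⟨t, ht, ⟨d, hd⟩, hDt⟩ := ih
      refine ⟨t * hh hF n j ⟨ζ ^ ((j : ℕ) + 1), hC j⟩, mul_mem ht (by rw [← hE]; exact E.hh_mem _ _),
        ⟨fun x => d x * dj q n j (ζ ^ ((j : ℕ) + 1)) x, ?_⟩, fun i => ?_⟩
      · show t.1.1 * (hh hF n j _).1.1 = _
        rw [hd, hh_val, Matrix.diagonal_mul_diagonal]
        congr 1
      · have h3 := hM.hh i j ⟨ζ ^ ((j : ℕ) + 1), hC j⟩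
        rw [hE, hΔ] at h3
        have h4 : DA i (phi hF n k (t * hh hF n j ⟨ζ ^ ((j : ℕ) + 1), hC j⟩)) =
            DA i (phi hF n k t) * DA i (phi hF n k (hh hF n j ⟨ζ ^ ((j : ℕ) + 1), hC j⟩)) := by
          rw [map_mul]
          show ld _ ((phi hF n k t).1 * (phi hF n k (hh hF n j _)).1) = ld _ _ * ld _ _
          refine ld_mul_upper (le_of_fin i) _ _ ?_
          rw [phi_diag (hh_val hF n j _)]
          exact diag_upper _
        rw [h4, h3, hDt]
        by_cases hi : o i = j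
        · rw [if_neg (by rw [hi]; exact hj), if_pos hi, if_pos (by rw [hi]; exact Finset.mem_insert_self _ _), one_mul]
          show (algebraMap F k ((ζ ^ ((j : ℕ) + 1) : Fˣ) : F)) ^ ee q n i = _
          rw [Units.val_pow_eq_pow_val, map_pow]
          have hi' : (if (i : ℕ) < (n + 1) / 2 then (i : ℕ) else n - 1 - i) = j := (ho i).symm.trans (congrArg Fin.val hi)
          unfold H356.TU.ee
          split_ifs at hi' ⊢ with h5
          · rw [pow_one, hi']
          · rw [← hi']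
            have h6 : algebraMap F k (ζ : F) ^ (n + 1) = 1 := by
              rw [← map_pow, ← Units.val_pow_eq_pow_val, h1, Units.val_one, map_one]
            have h7 : algebraMap F k (ζ : F) ^ (q + 1) = 1 := by
              rw [← map_pow, ← Units.val_pow_eq_pow_val, h2, Units.val_one, map_one]
            have h8 : algebraMap F k (ζ : F) ≠ 0 := by
              intro h0
              rw [h0, zero_pow (Nat.succ_ne_zero _)] at h7
              exact zero_ne_one h7
            have h9 : ((algebraMap F k (ζ : F) ^ (n - 1 - (i : ℕ) + 1)) ^ q) *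
                algebraMap F k (ζ : F) ^ (n - 1 - (i : ℕ) + 1) = 1 := by
              rw [← pow_succ, ← pow_mul, mul_comm, pow_mul, h7, one_pow]
            have h10 : algebraMap F k (ζ : F) ^ ((i : ℕ) + 1) * algebraMap F k (ζ : F) ^ (n - 1 - (i : ℕ) + 1) = 1 := by
              rw [← pow_add]
              have e : (i : ℕ) + 1 + (n - 1 - i + 1) = n + 1 := by omega
              rw [e, h6]
            exact mul_right_cancel₀ (pow_ne_zero _ h8) (h9.trans h10.symm)
        · rw [if_neg hi, mul_one]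
          congr 1
          rw [Finset.mem_insert, eq_iff_iff]
          exact ⟨Or.inr, fun h => h.resolve_left hi⟩
  obtain ⟨t, ht, ⟨d, hd⟩, hDt⟩ := key Finset.univ
  have h3 : (fun x => algebraMap F k (d x : F)) = fun _ => algebraMap F k (ζ : F) := by
    refine diag_unique (fun x => ?_) (fun i => ?_) ?_
    · rw [Ne, map_eq_zero]
      exact ζ.ne_zero
    · rw [← ld_diagonal (le_of_fin i) (fun x => algebraMap F k (d x : F)), ← phi_diag hd]
      have h4 := hDt i
      rw [if_pos (Finset.mem_univ _)] at h4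
      show DA i (phi hF n k t) = _
      rw [h4, Finset.prod_const, Finset.card_univ, Fintype.card_fin]
    · have h4 := (phi hF n k t).2
      rw [phi_diag hd, Matrix.det_diagonal] at h4
      rw [h4, Finset.prod_const, Finset.card_univ, Fintype.card_fin, ← map_pow, ← Units.val_pow_eq_pow_val, h1,
        Units.val_one, map_one]
  have h4 : t = scl hF h1 h2 := by
    apply Subtype.ext
    apply Subtype.ext
    rw [hd, scl_val]
    congr 1
    funext x
    exact (algebraMap F k).injective (congrFun h3 x)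
  rw [← h4]
  exact ht

/-- **the scalars act by `ζ ^ ∑ (i + 1) l_i`** -/
theorem act_sc [Infinite k] {o : Fin n → Fin ((n + 1) / 2)} (ho : ∀ i, (o i : ℕ) = if (i : ℕ) < (n + 1) / 2 then (i : ℕ) else n - 1 - i)
    (hΔ : ∀ i g, D.Δ i g = DA i g) (hM : E.Map D (phi hF n k) (chi q n k) o (ee q n))
    (hE : E.hh = hh hF n) {W : Type*} [AddCommGroup W] [Module k W] {σ : SJ hF n →* Module.End k W}
    {l : Fin n → ℕ} {v : W} (hv : E.IsW (chi q n k) σ (H564.TWP.TSys.wt o (ee q n) l) v) {ζ : Fˣ}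
    (h1 : ζ ^ (n + 1) = 1) (h2 : ζ ^ (q + 1) = 1) :
    σ (scl hF h1 h2) v = algebraMap F k (ζ : F) ^ (∑ i : Fin n, ((i : ℕ) + 1) * l i) • v := by
  rw [act_H hM hv (scl_mem ho hΔ hM hE h1 h2)]
  congr 1
  unfold FDat.cc
  rw [← Finset.prod_pow_eq_pow_sum]
  refine Finset.prod_congr rfl fun i _ => ?_
  have e : D.Δ i (phi hF n k (scl hF h1 h2)) = algebraMap F k (ζ : F) ^ ((i : ℕ) + 1) := by
    rw [hΔ]
    show ld _ (phi hF n k (scl hF h1 h2)).1 = _
    rw [phi_diag (d := fun _ => ζ) (scl_val hF h1 h2), ld_diagonal (le_of_fin i), Finset.prod_const, Finset.card_univ,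
      Fintype.card_fin]
  rw [e, ← pow_mul]

end centre

/-! ### fixed vectors -/

section main

variable {F : Type v} [Field F] [Fintype F] {p : ℕ} [hp : Fact p.Prime] [CharP F p] {q n : ℕ}
  {hF : Fintype.card F = q ^ 2}
  {D : FDat (Fin n) (Pos n) (AlgebraicClosure F) (Matrix.SpecialLinearGroup (Fin (n + 1)) (AlgebraicClosure F))}
  {E : TSys (Fin ((n + 1) / 2)) (fun j => Cs (F := F) q n j) (SJ hF n)}

/-- **the classes of the weights at the levels are chosen before the element** -/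
theorem exists_class_SJ {o : Fin n → Fin ((n + 1) / 2)}
    (ho : ∀ i, (o i : ℕ) = if (i : ℕ) < (n + 1) / 2 then (i : ℕ) else n - 1 - i)
    (hΔ : ∀ i g, D.Δ i g = DA i g) (hE : E.hh = hh hF n)
    (H : Hyp p E D (phi hF n (AlgebraicClosure F)) (chi q n (AlgebraicClosure F)) o (ee q n) (fun _ => q))
    (hwt : ∀ (W : Type (max u v)) [AddCommGroup W] [Module (AlgebraicClosure F) W], E.Wt (AlgebraicClosure F) W)
    {f : ℕ} (hf : q = p ^ f)
    (V : Type u) [AddCommGroup V] [Module (ZMod p) V] [Finite V] [Nontrivial V] (ρ : SJ hF n →* (V ≃ₗ[ZMod p] V)) :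
    ∃ c : ℕ → ℕ, ((∀ z ∈ Subgroup.center (SJ hF n), ρ z = 1) → ∀ z : F, z ^ (n + 1) = 1 → z ^ (q + 1) = 1 →
        z ^ (∑ a ∈ range f, p ^ a * c a) = 1) ∧
      ∀ (x : SJ hF n) (θ : Fin (n + 1) → AlgebraicClosure F) (g : Matrix.GeneralLinearGroup (Fin (n + 1)) (AlgebraicClosure F)),
        x.1.1.map (algebraMap F (AlgebraicClosure F)) = g.1 * Matrix.diagonal θ * (g⁻¹).1 → ¬ p ∣ orderOf x →
        ∀ J : ℕ → Finset (Fin (n + 1)), (∀ a < f, (J a).card ≡ c a [MOD n + 1]) →
          ∏ a ∈ range f, (∏ j ∈ J a, θ j) ^ p ^ a = 1 → ∃ w : V, w ≠ 0 ∧ ρ x w = w := by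
  classical
  have hpp : p.Prime := Fact.out
  have hck : CharP (AlgebraicClosure F) p :=
    charP_of_injective_algebraMap (algebraMap F (AlgebraicClosure F)).injective p
  obtain ⟨W, _, _, σ, l, v, hσ, hv0, hl, hv, hfix⟩ := exists_weight_sum (k := AlgebraicClosure F) H hwt V ρ
  have hl' : ∀ j, l j < p ^ f := fun j => by rw [← hf]; exact hl j
  have hsum : ∑ a ∈ range f, p ^ a * (∑ j : Fin n, ((j : ℕ) + 1) * (l j / p ^ a % p)) =
      ∑ j : Fin n, ((j : ℕ) + 1) * l j := by
    simp only [Finset.mul_sum]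
    rw [Finset.sum_comm]
    refine Finset.sum_congr rfl fun j _ => ?_
    have h2 := FDat.digits_eq p f hpp.one_lt (l j) (hl' j)
    conv_rhs => rw [← h2, Finset.mul_sum]
    exact Finset.sum_congr rfl fun a _ => by ring
  refine ⟨fun a => ∑ j : Fin n, ((j : ℕ) + 1) * (l j / p ^ a % p), fun hz z hz1 hz2 => ?_,
    fun x θ g hxθ hx J hJ1 hJ2 => ?_⟩
  · rw [hsum]
    have hz0 : z ≠ 0 := by
      rintro rfl
      rw [zero_pow (Nat.succ_ne_zero n)] at hz1
      exact zero_ne_one hz1
    have h1 : (Units.mk0 z hz0) ^ (n + 1) = 1 := by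
      apply Units.ext
      rw [Units.val_pow_eq_pow_val, Units.val_one, Units.val_mk0, hz1]
    have h2 : (Units.mk0 z hz0) ^ (q + 1) = 1 := by
      apply Units.ext
      rw [Units.val_pow_eq_pow_val, Units.val_one, Units.val_mk0, hz2]
    have h3 := act_sc ho hΔ H.map hE hv h1 h2
    rw [hσ _ (hz _ (scl_center hF h1 h2)), Units.val_mk0] at h3
    have h4 : ((1 : AlgebraicClosure F) - algebraMap F (AlgebraicClosure F) z ^
        (∑ j : Fin n, ((j : ℕ) + 1) * l j)) • v = 0 := by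
      rw [sub_smul, one_smul, sub_eq_zero]
      exact h3
    apply (algebraMap F (AlgebraicClosure F)).injective
    rw [map_pow, map_one]
    exact (sub_eq_zero.1 ((smul_eq_zero.1 h4).resolve_right hv0)).symm
  · have hr : ((orderOf x : ℕ) : AlgebraicClosure F) ≠ 0 := by
      rw [Ne, CharP.cast_eq_zero_iff (AlgebraicClosure F) p]
      exact hx
    have hbx : (phi hF n (AlgebraicClosure F) x).1 = g.1 * Matrix.diagonal θ * (g⁻¹).1 := hxθ
    apply hfix
    obtain ⟨h, g', hne⟩ := (fdA n (AlgebraicClosure F)).sum_ne_zero_digits (p := p) (x := phi hF n (AlgebraicClosure F) x)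
      (f := f) (r := orderOf x) hr hl' (fun a => ∏ j ∈ J a, θ j)
      (fun a ha => eig_of_conj_mod (p := p) hbx _ (fun j => Nat.mod_lt _ hpp.pos) (hJ1 a ha)) hJ2
    refine ⟨h, g', ?_⟩
    have e : ∀ g, D.cc l g = (fdA n (AlgebraicClosure F)).cc l g := by
      intro g
      unfold FDat.cc
      exact Finset.prod_congr rfl fun i _ => by rw [hΔ]; rfl
    simp only [e]
    exact hne

/-- **fixed vectors on all modules** -/
theorem fixAll_SJ {o : Fin n → Fin ((n + 1) / 2)}
    (ho : ∀ i, (o i : ℕ) = if (i : ℕ) < (n + 1) / 2 then (i : ℕ) else n - 1 - i)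
    (hΔ : ∀ i g, D.Δ i g = DA i g) (hE : E.hh = hh hF n)
    (H : Hyp p E D (phi hF n (AlgebraicClosure F)) (chi q n (AlgebraicClosure F)) o (ee q n) (fun _ => q))
    (hwt : ∀ (W : Type (max u v)) [AddCommGroup W] [Module (AlgebraicClosure F) W], E.Wt (AlgebraicClosure F) W)
    {f : ℕ} (hf : q = p ^ f) (x : SJ hF n) (hx : (orderOf x).Coprime p) (θ : Fin (n + 1) → AlgebraicClosure F)
    (g : Matrix.GeneralLinearGroup (Fin (n + 1)) (AlgebraicClosure F))
    (hxθ : x.1.1.map (algebraMap F (AlgebraicClosure F)) = g.1 * Matrix.diagonal θ * (g⁻¹).1)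
    (hJ : ∀ c ≤ n + 1, ∃ J : Finset (Fin (n + 1)), J.card = c ∧ ∏ j ∈ J, θ j = 1) : H425.KFix.FixAll.{u} p x := by
  intro V _ _ _ _ ρ
  obtain ⟨c, -, hc⟩ := exists_class_SJ ho hΔ hE H hwt hf V ρ
  have h1 : ∀ a, ∃ J : Finset (Fin (n + 1)), J.card = c a % (n + 1) ∧ ∏ j ∈ J, θ j = 1 := fun a =>
    hJ _ (Nat.mod_lt _ (Nat.succ_pos n)).le
  choose J hJ1 hJ2 using h1
  refine hc x θ g hxθ (fun h => (Nat.Prime.coprime_iff_not_dvd hp.out).1 hx.symm h) J (fun a _ => ?_) ?_
  · rw [hJ1]
    exact Nat.mod_modEq _ _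
  · exact Finset.prod_eq_one fun a _ => by rw [hJ2, one_pow]

end main

end Cfsg.Agent.H379.SUD
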