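import Cfsg.Agent.H373.CV.Base
import Cfsg.Agent.H403.LinChar
import Cfsg.Agent.H72.AdjPSU
import Cfsg.Agent.H127.PSUThree

/-!
# S3442, row O2: `PSU_n(q)`, `n` odd, own characteristic (helper379)

* `Bal t` : for every `c ≤ n` some subset of size `c` has product `1`; `bal_of_pairs`, `exists_bal`;
* `EngSU` : the engine: an element of `SU_n(q)` of order prime to `p` with balanced eigenvalues has a fixed vector on
  every module in characteristic `p`; `witness`, `orderOf_mk`;
* `hit_psu_odd` : `Hit p (PSU n F q)` for `n` odd, `n ≥ 5`, or `n = 3` and `q > 3` odd.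
-/

set_option autoImplicit false

namespace Cfsg.Agent.H379.CV

open Polynomial Function Cfsg.Agent.H403 Cfsg.Agent.H403.NumTop

/-- for every `c ≤ n` some subset of size `c` has product `1` -/
def Bal {E : Type*} [CommMonoid E] {n : ℕ} (t : Fin n → E) : Prop :=
  ∀ c ≤ n, ∃ J : Finset (Fin n), J.card = c ∧ ∏ j ∈ J, t j = 1

section

variable {E : Type*} [CommMonoid E]

theorem bal_of_nat {n : ℕ} {s : ℕ → E}
    (h : ∀ c ≤ n, ∃ A : Finset ℕ, (∀ a ∈ A, a < n) ∧ A.card = c ∧ ∏ a ∈ A, s a = 1) :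
    Bal fun j : Fin n => s j := by
  intro c hc
  obtain ⟨A, hA, hcard, hprod⟩ := h c hc
  refine ⟨A.attachFin hA, by rw [Finset.card_attachFin, hcard], ?_⟩
  rw [← hprod]
  refine Finset.prod_bij (fun j _ => (j : ℕ)) ?_ ?_ ?_ ?_
  · intro j hj
    exact Finset.mem_attachFin hA |>.1 hj
  · intro a _ b _ hab
    exact Fin.ext hab
  · intro a ha
    exact ⟨⟨a, hA a ha⟩, (Finset.mem_attachFin hA).2 ha, rfl⟩
  · intro _ _
    rfl

theorem exists_even {m : ℕ} {s : ℕ → E} (h : ∀ j < m, s j * s (j + m) = 1) (k : ℕ) (hk : k ≤ m) :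
    ∃ A : Finset ℕ, (∀ a ∈ A, a < k ∨ (m ≤ a ∧ a < m + k)) ∧ A.card = 2 * k ∧ ∏ a ∈ A, s a = 1 := by
  induction k with
  | zero => exact ⟨∅, by simp, by simp, by simp⟩
  | succ k ih =>
    obtain ⟨A, h1, h2, h3⟩ := ih (by omega)
    have h4 : k + m ∉ A := fun h => by have := h1 _ h; omega
    have h5 : k ∉ insert (k + m) A := by
      intro h
      rcases Finset.mem_insert.1 h with h | h
      · omega
      · have := h1 _ h; omega
    refine ⟨insert k (insert (k + m) A), ?_, ?_, ?_⟩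
    · intro a ha
      rcases Finset.mem_insert.1 ha with h | h
      · omega
      rcases Finset.mem_insert.1 h with h | h
      · omega
      have := h1 _ h
      omega
    · rw [Finset.card_insert_of_notMem h5, Finset.card_insert_of_notMem h4, h2]
      ring
    · rw [Finset.prod_insert h5, Finset.prod_insert h4, h3, mul_one, h k (by omega)]

theorem bal_of_pairs {m : ℕ} {s : ℕ → E} (h : ∀ j < m, s j * s (j + m) = 1) (h1 : s (2 * m) = 1) :
    Bal fun j : Fin (2 * m + 1) => s j := by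
  refine bal_of_nat fun c hc => ?_
  obtain ⟨k, rfl | rfl⟩ := Nat.even_or_odd' c
  · obtain ⟨A, h2, h3, h4⟩ := exists_even h k (by omega)
    exact ⟨A, fun a ha => by have := h2 a ha; omega, h3, h4⟩
  · obtain ⟨A, h2, h3, h4⟩ := exists_even h k (by omega)
    have h5 : 2 * m ∉ A := fun h => by have := h2 _ h; omega
    refine ⟨insert (2 * m) A, ?_, ?_, ?_⟩
    · intro a ha
      rcases Finset.mem_insert.1 ha with h | h
      · omega
      · have := h2 a h; omega
    · rw [Finset.card_insert_of_notMem h5, h3]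
    · rw [Finset.prod_insert h5, h4, h1, mul_one]

end

section

variable {E : Type*} [Field E] [IsAlgClosed E]

/-- `x ^ m = -1` modulo `r` if `x` has order `2 m` -/
theorem dvd_pow_add_one {r m : ℕ} (hr : r.Prime) (hm : 1 ≤ m) {x : ℤ}
    (h : orderOf ((x : ℤ) : ZMod r) = 2 * m) : (r : ℤ) ∣ 1 + x ^ m := by
  have := Fact.mk hr
  have h1 : ((x : ZMod r) ^ m) ^ 2 = 1 := by
    rw [← pow_mul, mul_comm, ← h, pow_orderOf_eq_one]
  have h2 : (x : ZMod r) ^ m ≠ 1 := by
    intro h2
    have h3 := orderOf_dvd_of_pow_eq_one h2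
    rw [h] at h3
    have := Nat.le_of_dvd (by omega) h3
    omega
  have h3 : (x : ZMod r) ^ m = -1 := by
    have h4 : ((x : ZMod r) ^ m - 1) * ((x : ZMod r) ^ m + 1) = 0 := by
      linear_combination h1
    rcases mul_eq_zero.1 h4 with h | h
    · exact absurd (sub_eq_zero.1 h) h2
    · exact eq_neg_of_add_eq_zero_left h
  rw [← ZMod.intCast_zmod_eq_zero_iff_dvd]
  push_cast
  rw [h3]
  ring

theorem zpow_eq_one_of_dvd {y : E} {r : ℕ} (h : y ^ r = 1) {a : ℤ} (ha : (r : ℤ) ∣ a) : y ^ a = 1 := by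
  obtain ⟨c, rfl⟩ := ha
  rw [zpow_mul, zpow_natCast, h, one_zpow]

/-- **The eigenvalues.** -/
theorem exists_bal {x : ℤ} {R : Multiset E} {m r : ℕ} (hR : Cl x R) (hm : 1 ≤ m)
    (hcard : Multiset.card R = 2 * m + 1) (hprod : R.prod = 1) (hr : r.Prime)
    (hx : orderOf ((x : ℤ) : ZMod r) = 2 * m) {y : E} (hy : y ∈ R) (hyr : y ^ r = 1) (hy1 : y ≠ 1) :
    ∃ t : Fin (2 * m + 1) → E, Bal t ∧ (R.map fun a => X - C a).prod = ∏ i, (X - C (t i)) := by
  have hy0 : y ≠ 0 := hR.ne_zero hy
  have hd := dvd_pow_add_one hr hm hx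
  have hper : per x y = 2 * m :=
    per_eq hR hy hr hx (A := 1) (by rwa [pow_one]) (by rwa [pow_one]) (by omega)
  let s : ℕ → E := fun j => if j < 2 * m then y ^ (x ^ j) else 1
  have hpair : ∀ j < m, s j * s (j + m) = 1 := by
    intro j hj
    show (if j < 2 * m then y ^ (x ^ j) else 1) * (if j + m < 2 * m then y ^ (x ^ (j + m)) else 1) = 1
    rw [if_pos (by omega), if_pos (by omega), ← zpow_add₀ hy0]
    refine zpow_eq_one_of_dvd hyr ?_
    have : x ^ j + x ^ (j + m) = x ^ j * (1 + x ^ m) := by ring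
    rw [this]
    exact Dvd.dvd.mul_left hd _
  have hlast : s (2 * m) = 1 := if_neg (lt_irrefl _)
  have horb : orb x y = (Multiset.range (2 * m)).map s := by
    unfold orb
    rw [hper]
    refine Multiset.map_congr rfl fun j hj => ?_
    exact (if_pos (Multiset.mem_range.1 hj)).symm
  have horbprod : (orb x y).prod = 1 := by
    rw [horb]
    obtain ⟨A, h1, h2, h3⟩ := exists_even hpair m le_rfl
    have h4 : A = Finset.range (2 * m) := by
      apply Finset.eq_of_subset_of_card_le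
      · intro a ha
        rw [Finset.mem_range]
        have := h1 a ha
        omega
      · rw [Finset.card_range, h2]
    rw [h4] at h3
    exact h3
  obtain ⟨R', hR'⟩ := Multiset.le_iff_exists_add.1 (hR.orb_le hy)
  have hc' : Multiset.card R' = 1 := by
    have := congrArg Multiset.card hR'
    rw [hcard, Multiset.card_add, card_orb, hper] at this
    omega
  obtain ⟨z, rfl⟩ := Multiset.card_eq_one.1 hc'
  have hz : z = 1 := by
    rw [hR', Multiset.prod_add, horbprod, one_mul, Multiset.prod_singleton] at hprod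
    exact hprod
  subst hz
  refine ⟨fun j => s j, bal_of_pairs hpair hlast, ?_⟩
  have h1 : R = (Multiset.range (2 * m + 1)).map s := by
    rw [hR', horb, Multiset.range_succ, Multiset.map_cons, hlast, add_comm, Multiset.singleton_add]
  rw [h1, Multiset.map_map, Fin.prod_univ_eq_prod_range (fun j => X - C (s j)) (2 * m + 1)]
  rfl

end

end Cfsg.Agent.H379.CV

namespace Cfsg.Agent.H379.CV

open Polynomial Function Cfsg Cfsg.Agent.H373.CV Cfsg.Agent.H403 Cfsg.Agent.H403.NumTop
open Cfsg.Agent.LieClassical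

universe u v

/-- the engine for `SU_n(q)` in characteristic `p` -/
def EngSU (p n q : ℕ) (F : Type v) [Field F] : Prop :=
  ∀ x : SU n F q, Nat.Coprime (orderOf x) p → ∀ t : Fin n → AlgebraicClosure F,
    ((x : Matrix.SpecialLinearGroup (Fin n) F) : Matrix (Fin n) (Fin n) F).charpoly.map
      (algebraMap F (AlgebraicClosure F)) = ∏ i, (X - C (t i)) → Bal t →
    ∀ (W : Type u) [AddCommGroup W] [Finite W] [Nontrivial W], (∀ w : W, p • w = 0) →
      ∀ φ : SU n F q →* AddMonoid.End W, ∃ w : W, w ≠ 0 ∧ φ x w = w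

section abs

/-- from an element of a central extension -/
theorem witness {S : Type v} [Group S] {Z : Subgroup S} [Z.Normal] {p : ℕ} {x : S}
    (hx : Nat.Coprime (orderOf x) p) (hx' : orderOf (QuotientGroup.mk x : S ⧸ Z) = orderOf x)
    (hno : ∀ y : S ⧸ Z, orderOf y ≠ p * orderOf x)
    (W : Type u) [AddCommGroup W] (hW : ∀ w : W, p • w = 0)
    (φ : S ⧸ Z →* AddMonoid.End W)
    (h : ∃ w : W, w ≠ 0 ∧ (φ.comp (QuotientGroup.mk' Z)) x w = w) :
    ∃ (x : S ⧸ Z) (w : W), ∑ i ∈ Finset.range (orderOf x), φ (x ^ i) w ≠ 0 ∧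
      ∀ y : S ⧸ Z, orderOf y ≠ p * orderOf x := by
  obtain ⟨w, hw, hfix⟩ := h
  refine ⟨QuotientGroup.mk x, w, ?_, fun y => by rw [hx']; exact hno y⟩
  have h1 : φ (QuotientGroup.mk x) w = w := hfix
  have h2 : ∀ i : ℕ, φ ((QuotientGroup.mk x : S ⧸ Z) ^ i) w = w := by
    intro i
    induction i with
    | zero => rw [pow_zero, map_one]; rfl
    | succ i ih =>
      rw [pow_succ, map_mul]
      show φ ((QuotientGroup.mk x : S ⧸ Z) ^ i) (φ (QuotientGroup.mk x) w) = w
      rw [h1, ih]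
  rw [Finset.sum_congr rfl fun i _ => h2 i, Finset.sum_const, Finset.card_range, hx']
  intro h3
  apply hw
  have h4 : (1 : ℤ) = (orderOf x : ℤ) * Nat.gcdA (orderOf x) p + (p : ℤ) * Nat.gcdB (orderOf x) p := by
    rw [← Nat.gcd_eq_gcd_ab, hx.gcd_eq_one]
    rfl
  calc w = (1 : ℤ) • w := (one_smul ℤ w).symm
    _ = 0 := by
      rw [h4, add_smul, mul_comm (orderOf x : ℤ), mul_comm (p : ℤ), mul_smul, mul_smul,
        natCast_zsmul, natCast_zsmul, h3, hW, smul_zero, smul_zero, add_zero]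

end abs

section psu

variable {F : Type v} [Field F] [Fintype F] {p n q : ℕ} [hp : Fact p.Prime] [CharP F p]

omit hp [CharP F p] in
/-- a noncentral element of prime order not dividing `q + 1` -/
theorem orderOf_mk (hF : Fintype.card F = q ^ 2) (hn : 3 ≤ n) {x : SU n F q} {r : ℕ} (hr : r.Prime)
    (hx : orderOf x = r) (hrq : ¬ r ∣ q + 1) : orderOf (QuotientGroup.mk x : PSU n F q) = r := by
  have := Fact.mk hr
  apply orderOf_eq_prime
  · rw [← QuotientGroup.mk_pow, ← hx, pow_orderOf_eq_one]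
    rfl
  · intro h
    rw [QuotientGroup.eq_one_iff] at h
    obtain ⟨c, hcn, hcq, rfl⟩ := (SUBasic.mem_center_SU_iff hF hn _).1 h
    have h1 : (SUBasic.suScalar q c hcn hcq) ^ r = 1 := by rw [← hx, pow_orderOf_eq_one]
    have h2 : c ^ r = 1 := by
      have h3 := congrArg (fun x : SU n F q =>
        ((x : Matrix.SpecialLinearGroup (Fin n) F) : Matrix (Fin n) (Fin n) F)) h1
      simp only [Subgroup.coe_pow, Matrix.SpecialLinearGroup.coe_pow, SUBasic.coe_suScalar,
        Matrix.diagonal_pow] at h3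
      have h4 := congrFun (congrFun h3 ⟨0, by omega⟩) ⟨0, by omega⟩
      simpa using h4
    have h5 : orderOf c ∣ 1 := by
      rw [← ((Nat.Prime.coprime_iff_not_dvd hr).2 hrq).gcd_eq_one]
      exact Nat.dvd_gcd (orderOf_dvd_of_pow_eq_one h2) (orderOf_dvd_of_pow_eq_one hcq)
    have h6 : c = 1 := orderOf_eq_one_iff.1 (Nat.dvd_one.1 h5)
    subst h6
    have h7 : SUBasic.suScalar q (1 : F) hcn hcq = 1 := by
      apply Subtype.ext
      apply Subtype.ext
      rw [SUBasic.coe_suScalar]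
      exact Matrix.diagonal_one
    rw [h7, orderOf_one] at hx
    exact hr.one_lt.ne hx

theorem hit_case_a (hF : Fintype.card F = q ^ 2) {m r : ℕ} (hm : 1 ≤ m) (hr : r.Prime)
    (hro : orderOf ((xv false q : ℤ) : ZMod r) = 2 * m) (hE : EngSU.{u} p (2 * m + 1) q F) :
    Hit.{u, v} p (PSU (2 * m + 1) F q) := by
  intro W _ _ _ hW φ
  have hq : 2 ≤ q := two_le_of_card (t := 1) hF
  have hpp : p.Prime := hp.out
  have hn : 3 ≤ 2 * m + 1 := by omega
  have hrA : ¬ r ∣ AA false 1 q := not_dvd_AA_one (by omega) hro (by omega)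
  have hrq1 : ¬ r ∣ q + 1 := by rwa [AA_one] at hrA
  have hrq : ¬ r ∣ q := not_dvd_q hr hro (by omega)
  have hpq : p ∣ q := by
    obtain ⟨k, -, hk⟩ := FiniteField.card F p
    have h1 : p ∣ q ^ 2 := by
      rw [← hF, hk]
      exact dvd_pow_self p k.ne_zero
    exact hpp.dvd_of_dvd_pow h1
  have hrp : r ≠ p := fun h => hrq (h ▸ hpq)
  -- an element of order `r`
  obtain ⟨z, hz⟩ : ∃ z : PSU (2 * m + 1) F q, orderOf z = r := by
    have h1 : r ∣ q ^ (2 * m) - 1 := by
      have h2 : r ∣ AA false (2 * m) q := (dvd_AA_iff (by omega)).2 (by rw [← hro, pow_orderOf_eq_one])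
      unfold AA at h2
      simpa using h2
    have h2 : H72.AdjPSU.HasBlock F q (2 * m) r :=
      H72.AdjPSU.hasBlock_even hF (by omega) h1 ((Nat.Prime.coprime_iff_not_dvd hr).2 hrq1)
    exact H72.AdjPSU.exists_order_of_block_lt hF hn h2 (by omega) r dvd_rfl
  obtain ⟨x, hx⟩ : ∃ x : SU (2 * m + 1) F q, orderOf x = r := by
    have h1 : r ∣ Nat.card (SU (2 * m + 1) F q) := by
      rw [Subgroup.card_eq_card_quotient_mul_card_subgroup (Subgroup.center (SU (2 * m + 1) F q))]
      exact Dvd.dvd.mul_right (hz ▸ orderOf_dvd_natCard z) _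
    have := Fact.mk hr
    exact exists_prime_orderOf_dvd_card' r h1
  have hcop : Nat.Coprime (orderOf x) p := by
    rw [hx]
    exact (Nat.coprime_primes hr hpp).2 hrp
  have hmk : orderOf (QuotientGroup.mk x : PSU (2 * m + 1) F q) = orderOf x := by
    rw [hx]
    exact orderOf_mk hF hn hr hx hrq1
  -- the eigenvalues
  set M : Matrix (Fin (2 * m + 1)) (Fin (2 * m + 1)) F :=
    ((x : Matrix.SpecialLinearGroup (Fin (2 * m + 1)) F) : Matrix (Fin (2 * m + 1)) (Fin (2 * m + 1)) F) with hMdef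
  have hdet : M.det = 1 := (x : Matrix.SpecialLinearGroup (Fin (2 * m + 1)) F).2
  have hMr : M ^ r = 1 • (1 : Matrix (Fin (2 * m + 1)) (Fin (2 * m + 1)) F) := by
    rw [one_smul, hMdef, ← Matrix.SpecialLinearGroup.coe_pow, ← Subgroup.coe_pow, ← hx, pow_orderOf_eq_one]
    rfl
  have hMne : M ≠ 1 := by
    intro h
    have h1 : x = 1 := Subtype.ext (Subtype.ext h)
    rw [h1, orderOf_one] at hx
    exact hr.one_lt.ne hx
  have hCl : Cl (xv false q) (evs (AlgebraicClosure F) M) :=
    ⟨inj_xv (t := 1) hF false, evs_unitary hF (ClassicalGeometry.GUBasic.transpose_mul_map (by omega) x.2),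
      zero_notMem_evs _ M (isUnit_of_det hdet)⟩
  have hmem : ∀ y ∈ evs (AlgebraicClosure F) M, y ^ r = 1 := by
    intro y hy
    have h1 := pow_of_mem_evs (AlgebraicClosure F) (c := (1 : F)) (by rw [hMr, one_smul, one_smul]) hy
    rw [h1, map_one]
  obtain ⟨y, hy, hy1⟩ : ∃ y ∈ evs (AlgebraicClosure F) M, y ≠ 1 := by
    by_contra hcon
    push Not at hcon
    apply hMne
    have h1 := pow_eq_smul_of_coprime (AlgebraicClosure F) (M := M) (k := 1) (m := r) (c := 1) (ζ := 1) one_ne_zero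
      (natCast_ne_zero (t := 1) hF hr hrq) (by rw [one_mul, hMr, one_smul, one_smul])
      (fun y hy => by rw [pow_one, hcon y hy, map_one])
    rwa [pow_one, one_smul] at h1
  obtain ⟨t, htb, ht⟩ := exists_bal hCl hm (by rw [card_evs, Fintype.card_fin])
    (by rw [prod_evs, hdet, map_one]) hr hro hy (hmem y hy) hy1
  -- the engine
  refine witness hcop hmk ?_ W hW φ (hE x hcop t ?_ htb W hW _)
  · intro y hy
    refine Lin.not_adj_char (lin_psu (E := AlgebraicClosure F) hF hn) (by simpa using hF) hpp hpq hn hr hro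
      (Or.inr (by omega)) ⟨y, ?_⟩
    rw [hy, hx, mul_comm]
  · rw [map_charpoly_eq_prod, ht]

end psu

end Cfsg.Agent.H379.CV

namespace Cfsg.Agent.H379.CV

open Polynomial Function Cfsg Cfsg.Agent.H373.CV Cfsg.Agent.H403 Cfsg.Agent.H403.NumTop
open Cfsg.Agent.LieClassical

universe u v

variable {F : Type v} [Field F] [Fintype F] {p n q : ℕ} [hp : Fact p.Prime] [CharP F p]

/-- an element of order four -/
def m4 (F : Type*) [Field F] : Matrix (Fin 3) (Fin 3) F := !![0, 1, 0; -1, 0, 0; 0, 0, 1]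

theorem m4_det (F : Type*) [Field F] : (m4 F).det = 1 := by
  rw [m4, Matrix.det_fin_three]
  simp

theorem m4_charpoly (F : Type*) [Field F] : (m4 F).charpoly = (X ^ 2 + 1) * (X - 1) := by
  rw [Matrix.charpoly, Matrix.det_fin_three]
  simp [m4]
  ring

theorem m4_sq (F : Type*) [Field F] : m4 F ^ 2 = !![-1, 0, 0; 0, -1, 0; 0, 0, 1] := by
  rw [pow_two, m4]
  ext i j
  fin_cases i <;> fin_cases j <;> simp [Matrix.mul_apply, Fin.sum_univ_three]

theorem m4_four (F : Type*) [Field F] : m4 F ^ 4 = 1 := by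
  have : m4 F ^ 4 = m4 F ^ 2 * m4 F ^ 2 := by rw [← pow_add]
  rw [this, m4_sq]
  ext i j
  fin_cases i <;> fin_cases j <;> simp [Matrix.mul_apply, Fin.sum_univ_three]

omit [Fintype F] hp [CharP F p] in
theorem m4_mem (hq : Odd q) (u v : Fin 3 → F) :
    hermForm 3 F q ((m4 F).mulVec u) ((m4 F).mulVec v) = hermForm 3 F q u v := by
  have h : ∀ w : Fin 3 → F, (m4 F).mulVec w = ![w 1, -w 0, w 2] := by
    intro w
    ext i
    fin_cases i <;> simp [m4, Matrix.mulVec, dotProduct, Fin.sum_univ_three]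
  rw [h, h]
  unfold hermForm
  rw [Fin.sum_univ_three, Fin.sum_univ_three]
  simp only [Matrix.cons_val_zero, Matrix.cons_val_one, Matrix.cons_val]
  rw [hq.neg_pow]
  ring

theorem hit_case_b (hF : Fintype.card F = q ^ 2) (hq4 : q % 4 = 1) (hE : EngSU.{u} p 3 q F) :
    Hit.{u, v} p (PSU 3 F q) := by
  intro W _ _ _ hW φ
  have hq : 2 ≤ q := two_le_of_card (t := 1) hF
  have hpp : p.Prime := hp.out
  have hodd : Odd q := Nat.odd_iff.2 (by omega)
  have hpq : p ∣ q := by
    obtain ⟨k, -, hk⟩ := FiniteField.card F p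
    have h1 : p ∣ q ^ 2 := by
      rw [← hF, hk]
      exact dvd_pow_self p k.ne_zero
    exact hpp.dvd_of_dvd_pow h1
  have hp2 : p ≠ 2 := by
    rintro rfl
    omega
  have h2F : (2 : F) ≠ 0 := by
    intro h
    have h1 : ((2 : ℕ) : F) = 0 := by exact_mod_cast h
    rw [CharP.cast_eq_zero_iff F p] at h1
    exact hp2 ((Nat.prime_dvd_prime_iff_eq hpp Nat.prime_two).1 h1)
  have hne : (-1 : F) ≠ 1 := by
    intro h
    apply h2F
    linear_combination -h
  let x : SU 3 F q := ⟨⟨m4 F, m4_det F⟩, m4_mem hodd⟩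
  have hpow : ∀ k, (((x ^ k : SU 3 F q) : Matrix.SpecialLinearGroup (Fin 3) F) : Matrix (Fin 3) (Fin 3) F) =
      m4 F ^ k := fun k => by rw [Subgroup.coe_pow, Matrix.SpecialLinearGroup.coe_pow]
  have hx4 : x ^ 2 ^ (1 + 1) = 1 := by
    apply Subtype.ext
    apply Subtype.ext
    rw [hpow]
    exact m4_four F
  have hxc : (QuotientGroup.mk x : PSU 3 F q) ^ 2 ^ 1 ≠ 1 := by
    rw [← QuotientGroup.mk_pow]
    intro h
    rw [QuotientGroup.eq_one_iff] at h
    obtain ⟨c, hcn, hcq, hc⟩ := (SUBasic.mem_center_SU_iff hF le_rfl _).1 h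
    have h1 : m4 F ^ 2 = Matrix.diagonal fun _ => c := by
      have h2 := hpow (2 ^ 1)
      rw [hc, SUBasic.coe_suScalar] at h2
      exact h2.symm
    rw [m4_sq] at h1
    have h2 := congrFun (congrFun h1 0) 0
    have h3 := congrFun (congrFun h1 2) 2
    simp at h2 h3
    exact hne (h2.trans h3.symm)
  have hmk : orderOf (QuotientGroup.mk x : PSU 3 F q) = 2 ^ (1 + 1) := by
    refine orderOf_eq_prime_pow hxc ?_
    rw [← QuotientGroup.mk_pow, hx4]
    rfl
  have hxo : orderOf x = 2 ^ (1 + 1) := by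
    refine orderOf_eq_prime_pow ?_ hx4
    intro h
    apply hxc
    rw [← QuotientGroup.mk_pow, h]
    rfl
  have hcop : Nat.Coprime (orderOf x) p := by
    rw [hxo]
    exact Nat.Coprime.pow_left _ ((Nat.coprime_primes Nat.prime_two hpp).2 (Ne.symm hp2))
  -- the eigenvalues
  obtain ⟨I, hI⟩ := IsAlgClosed.exists_pow_nat_eq (-1 : AlgebraicClosure F) (n := 2) (by norm_num)
  let s : ℕ → AlgebraicClosure F := fun j => if j = 0 then I else if j = 1 then -I else 1
  have hb : Bal fun j : Fin (2 * 1 + 1) => s j := by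
    refine bal_of_pairs (m := 1) (s := s) ?_ rfl
    intro j hj
    obtain rfl : j = 0 := by omega
    show I * (-I) = 1
    linear_combination -hI
  refine witness hcop (hmk.trans hxo.symm) ?_ W hW φ (hE x hcop (fun j : Fin 3 => s j) ?_ hb W hW _)
  · intro y hy
    obtain ⟨g, rfl⟩ := QuotientGroup.mk_surjective y
    rw [hxo] at hy
    have hpd : p ∣ p * 2 ^ (1 + 1) := dvd_mul_right _ _
    have hpq1 : ¬ p ∣ q + 1 := fun h => hpp.one_lt.ne' (Nat.dvd_one.1 ((Nat.dvd_add_right hpq).1 h))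
    have hqq : q ∣ q ^ 2 := dvd_pow_self q two_ne_zero
    rcases H127.PSUThree.order_dvd p hp2 q hF g with h | h | h | h <;> rw [hy] at h
    · exact hpq1 (hpd.trans h)
    · have h1 := h.trans (Nat.div_dvd_of_dvd (Dvd.dvd.mul_left (Nat.gcd_dvd_right 3 (q + 1)) p))
      have h2 := Nat.dvd_of_mul_dvd_mul_left hpp.pos h1
      have h3 : 4 ∣ q + 1 := h2
      omega
    · have h1 := hpd.trans (h.trans (Nat.div_dvd_of_dvd ?_))
      · have h2 : p ∣ 1 := by
          have h3 := Nat.dvd_sub (hpq.trans hqq) h1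
          have h4 : 1 ≤ q ^ 2 := Nat.one_le_pow _ _ (by omega)
          rwa [Nat.sub_sub_self h4] at h3
        exact hpp.one_lt.ne' (Nat.dvd_one.1 h2)
      · refine (Nat.gcd_dvd_right 3 (q + 1)).trans ?_
        have : q ^ 2 - 1 = (q + 1) * (q - 1) := by
          have := Nat.sq_sub_sq q 1
          simpa using this
        rw [this]
        exact dvd_mul_right _ _
    · have h4 : q ≤ q ^ 2 := Nat.le_self_pow two_ne_zero q
      have h1 : p ∣ q ^ 2 - q + 1 := by
        by_cases hd : Nat.gcd 3 (q + 1) ∣ q ^ 2 - q + 1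
        · exact hpd.trans (h.trans (Nat.div_dvd_of_dvd hd))
        · exfalso
          apply hd
          have hd3 : Nat.gcd 3 (q + 1) ∣ 3 := Nat.gcd_dvd_left _ _
          have hd1 : Nat.gcd 3 (q + 1) ∣ q + 1 := Nat.gcd_dvd_right _ _
          have h5 : q ^ 2 - q + 1 + 3 * q = (q + 1) * (q + 1) := by
            obtain ⟨a, ha⟩ := Nat.exists_eq_add_of_le h4
            have : (q + 1) * (q + 1) = q ^ 2 + 2 * q + 1 := by ring
            omega
          have h6 : Nat.gcd 3 (q + 1) ∣ q ^ 2 - q + 1 + 3 * q := by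
            rw [h5]
            exact Dvd.dvd.mul_right hd1 _
          exact (Nat.dvd_add_left (Dvd.dvd.mul_right hd3 _)).1 h6
      have h2 : p ∣ q ^ 2 - q := Nat.dvd_sub (hpq.trans hqq) hpq
      exact hpp.one_lt.ne' (Nat.dvd_one.1 ((Nat.dvd_add_right h2).1 h1))
  · show (m4 F).charpoly.map (algebraMap F (AlgebraicClosure F)) = _
    rw [m4_charpoly, Fin.prod_univ_three]
    show _ = (X - C I) * (X - C (-I)) * (X - C 1)
    simp only [Polynomial.map_mul, Polynomial.map_add, Polynomial.map_sub, Polynomial.map_pow, Polynomial.map_X,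
      Polynomial.map_one, map_neg, map_one]
    have : (C I : (AlgebraicClosure F)[X]) ^ 2 = -1 := by
      rw [← C_pow, hI, C_neg, C_1]
    linear_combination (X - 1) * this

/-- **Row O2, `n` odd.** -/
theorem hit_psu_odd (hF : Fintype.card F = q ^ 2) (hn : 3 ≤ n) (ho : Odd n) (h3 : n = 3 → Odd q ∧ 3 < q)
    (hE : EngSU.{u} p n q F) : Hit.{u, v} p (PSU n F q) := by
  have hq : 2 ≤ q := two_le_of_card (t := 1) hF
  obtain ⟨m, rfl⟩ := ho
  rcases Nat.lt_or_ge 1 m with hm | hm
  · obtain ⟨r, hr, -, hro⟩ := exists_prime (e := false) (i := 2 * m) hq (by omega) (by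
      rintro (⟨h, -⟩ | ⟨-, h, -⟩)
      · exact Bool.noConfusion h
      · omega)
    exact hit_case_a hF (by omega) hr hro hE
  · obtain rfl : m = 1 := by omega
    obtain ⟨hodd, hq3⟩ := h3 rfl
    have h4 : q % 4 = 1 ∨ q % 4 = 3 := by
      have := Nat.odd_iff.1 hodd
      omega
    rcases h4 with h4 | h4
    · exact hit_case_b hF h4 hE
    · -- an odd prime divisor of `q - 1`
      obtain ⟨r, hr, hrd⟩ := Nat.exists_prime_and_dvd (n := (q - 1) / 2) (by omega)
      have hr2 : r ≠ 2 := by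
        rintro rfl
        omega
      have hrq : r ∣ q - 1 := hrd.trans (Nat.div_dvd_of_dvd (by omega))
      refine hit_case_a hF le_rfl hr ?_ hE
      have := Fact.mk hr
      have h5 : (q : ZMod r) = 1 := by
        have h6 : ((q - 1 : ℕ) : ZMod r) = 0 := (ZMod.natCast_eq_zero_iff _ _).2 hrq
        rw [Nat.cast_sub (by omega), Nat.cast_one, sub_eq_zero] at h6
        exact h6
      have h6 : ((xv false q : ℤ) : ZMod r) = -1 := by
        unfold xv
        simp [h5]
      rw [h6]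
      have h7 : (2 : ZMod r) ≠ 0 := by
        intro h
        have h8 : ((2 : ℕ) : ZMod r) = 0 := by exact_mod_cast h
        rw [ZMod.natCast_eq_zero_iff] at h8
        exact hr2 ((Nat.prime_dvd_prime_iff_eq hr Nat.prime_two).1 h8)
      have h8 : orderOf (-1 : ZMod r) = 2 := orderOf_eq_prime (by ring) fun h => h7 (by linear_combination -h)
      exact h8

end Cfsg.Agent.H379.CV
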